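import Groth.Agent.ComodLib.Basic
import Groth.Prelude.Def_GLin
import Mathlib.RingTheory.Coalgebra.MonoidAlgebra
import Mathlib.RingTheory.HopfAlgebra.MonoidAlgebra

/-!
# Comodules over a monoid algebra are gradings
-/

universe u v w

open TensorProduct
open Groth.Agent.ComodLib

namespace Groth.Agent.GITTorus

variable {k : Type u} [Field k] {Λ : Type v} [AddCommMonoid Λ] [DecidableEq Λ]
variable {V : Type w} [AddCommGroup V] [Module k V] [HopfRep.Comod k (AddMonoidAlgebra k Λ) V]

/-- The form reading off the coefficient at `w`. -/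
noncomputable def coeffForm (w : Λ) : AddMonoidAlgebra k Λ →ₗ[k] k :=
  Finsupp.lapply w ∘ₗ (AddMonoidAlgebra.coeffLinearEquiv k).toLinearMap

theorem coeffForm_single (w v : Λ) (c : k) :
    coeffForm w (AddMonoidAlgebra.single v c) = if v = w then c else 0 := by
  simp [coeffForm, Finsupp.single_apply]

/-- The projection to the weight space `w`. -/
noncomputable def proj (w : Λ) : V →ₗ[k] V := actF (coeffForm (k := k) w)

theorem coact_eq_sum (f : V) : ∃ s : Finset Λ,
    HopfRep.Comod.coact (k := k) (A := AddMonoidAlgebra k Λ) f = ∑ w ∈ s, proj (k := k) w f ⊗ₜ[k] AddMonoidAlgebra.single w 1 ∧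
      ∑ w ∈ s, proj (k := k) w f = f := by
  obtain ⟨s, hs⟩ : ∃ s : Finset Λ, ∀ t, s ⊆ t →
      ∑ w ∈ t, slice (coeffForm (k := k) w) (HopfRep.Comod.coact (k := k) (A := AddMonoidAlgebra k Λ) f) ⊗ₜ[k]
        AddMonoidAlgebra.single w 1 = HopfRep.Comod.coact (k := k) (A := AddMonoidAlgebra k Λ) f := by
    generalize HopfRep.Comod.coact (k := k) (A := AddMonoidAlgebra k Λ) f = z
    induction z using TensorProduct.induction_on with
    | zero => exact ⟨∅, fun t _ => by simp⟩
    | tmul v a =>
      induction a using AddMonoidAlgebra.induction_linear with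
      | zero => exact ⟨∅, fun t _ => by simp⟩
      | single w c =>
        refine ⟨{w}, fun t ht => ?_⟩
        rw [Finset.sum_eq_single w]
        · rw [slice_tmul, coeffForm_single, if_pos rfl, TensorProduct.smul_tmul, AddMonoidAlgebra.smul_single,
            smul_eq_mul, mul_one]
        · intro b _ hb
          rw [slice_tmul, coeffForm_single, if_neg (Ne.symm hb), zero_smul, TensorProduct.zero_tmul]
        · intro h; exact absurd (ht (Finset.mem_singleton_self w)) h
      | add p q hp hq =>
        obtain ⟨sp, hp⟩ := hp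
        obtain ⟨sq, hq⟩ := hq
        refine ⟨sp ∪ sq, fun t ht => ?_⟩
        simp only [TensorProduct.tmul_add, map_add, TensorProduct.add_tmul, Finset.sum_add_distrib,
          hp t (Finset.union_subset_left ht), hq t (Finset.union_subset_right ht)]
    | add p q hp hq =>
      obtain ⟨sp, hp⟩ := hp
      obtain ⟨sq, hq⟩ := hq
      refine ⟨sp ∪ sq, fun t ht => ?_⟩
      simp only [map_add, TensorProduct.add_tmul, Finset.sum_add_distrib,
        hp t (Finset.union_subset_left ht), hq t (Finset.union_subset_right ht)]
  have h1 := (hs s subset_rfl).symm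
  refine ⟨s, h1, ?_⟩
  conv_rhs => rw [← actF_counit (k := k) (C := AddMonoidAlgebra k Λ) f, actF_apply, h1]
  simp [proj, actF_apply]

theorem proj_mem (w : Λ) (f : V) :
    proj (k := k) w f ∈ HopfRep.eigenspace k (AddMonoidAlgebra k Λ) V (AddMonoidAlgebra.single w 1) := by
  show HopfRep.Comod.coact (k := k) (A := AddMonoidAlgebra k Λ) (proj (k := k) w f) = _
  refine ext_of_forall_slice_eq fun φ => ?_
  show actF φ (actF (coeffForm (k := k) w) f) = _
  have h : actF φ (actF (coeffForm (k := k) w) f) =
      actF (φ (AddMonoidAlgebra.single w 1) • coeffForm (k := k) w) f := by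
    rw [show actF φ (actF (coeffForm (k := k) w) f) = _ from
      (actF_convMul (WithConv.toConv φ) (WithConv.toConv (coeffForm (k := k) w)) f).symm]
    congr 2
    refine LinearMap.ext fun a => ?_
    induction a using AddMonoidAlgebra.induction_linear with
    | zero => simp
    | single v c =>
      show LinearMap.mul' k k (TensorProduct.map φ (coeffForm w) (CoalgebraStruct.comul _)) = _
      rw [AddMonoidAlgebra.comul_single]
      simp [coeffForm_single]
      split_ifs with hv
      · subst hv
        rfl
      · rfl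
    | add p q hp hq => simp only [map_add, hp, hq]
  rw [h, actF_smul, LinearMap.smul_apply, slice_tmul]
  rfl

theorem iSup_eigenspace_eq_top :
    ⨆ w : Λ, HopfRep.eigenspace k (AddMonoidAlgebra k Λ) V (AddMonoidAlgebra.single w 1) = ⊤ := by
  refine eq_top_iff.mpr fun f _ => ?_
  obtain ⟨s, -, hs⟩ := coact_eq_sum (k := k) (Λ := Λ) f
  rw [← hs]
  exact Submodule.sum_mem _ fun w _ => Submodule.mem_iSup_of_mem w (proj_mem w f)

theorem proj_of_mem {v w : Λ} {f : V}
    (hf : f ∈ HopfRep.eigenspace k (AddMonoidAlgebra k Λ) V (AddMonoidAlgebra.single v 1)) :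
    proj (k := k) w f = if v = w then f else 0 := by
  rw [proj, actF_apply, show HopfRep.Comod.coact (k := k) (A := AddMonoidAlgebra k Λ) f = _ from hf, slice_tmul,
    coeffForm_single]
  split_ifs <;> simp

end Groth.Agent.GITTorus
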